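import Groth.Agent.Lib.TensorMod.Invertible
import Groth.Agent.Lib.RefHull26.Closed
import Groth.Agent.Lib.VB17.Sub
import Mathlib.CategoryTheory.Preadditive.AdditiveFunctor

/-!
# Sums of invertible modules: a component through which the identity of `O` factors
-/

set_option autoImplicit false
set_option backward.isDefEq.respectTransparency false
set_option backward.isDefEq.respectTransparency.types false

universe u

open CategoryTheory CategoryTheory.Limits AlgebraicGeometry Opposite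

noncomputable section

namespace Groth.Agent.Klein12

theorem comp_ne_zero {C : Type*} [Category C] [Preadditive C] [HasBinaryBiproducts C] {O P A B : C}
    (u : O ⟶ A ⊞ B) (v : A ⊞ B ⟶ P) (h : u ≫ v ≠ 0) :
    (u ≫ biprod.fst) ≫ (biprod.inl ≫ v) ≠ 0 ∨ (u ≫ biprod.snd) ≫ (biprod.inr ≫ v) ≠ 0 := by
  by_contra h'
  push Not at h'
  refine h ?_
  rw [← Category.id_comp v, ← biprod.total, Preadditive.add_comp, Preadditive.comp_add]
  simp only [Category.assoc] at h' ⊢
  rw [h'.1, h'.2, add_zero]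

variable {X : Scheme.{u}}

theorem id_ne_zero [Nonempty X] : (𝟙 (Coh.structureModule X) : Coh.structureModule X ⟶ _) ≠ 0 := fun h => by
  haveI : Nontrivial Γ(X, ⊤) := by
    haveI : Nonempty (⊤ : X.Opens) := ⟨⟨Classical.arbitrary X, trivial⟩⟩
    infer_instance
  have h1 : (1 : Γ(X, ⊤)) = 0 := congrArg (fun φ : Coh.structureModule X ⟶ _ => φ.app ⊤ (M1.one ⊤)) h
  exact one_ne_zero h1

/-- An invertible module through which `O` factors nontrivially is trivial, when `Γ(X, O)` is a field. -/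
theorem nonempty_iso_of_comp_ne_zero (hΓ : IsField Γ(X, ⊤)) {N : X.Modules} (hN : PicF.IsInvertible N)
    (a : Coh.structureModule X ⟶ N) (b : N ⟶ Coh.structureModule X) (hab : a ≫ b ≠ 0) :
    Nonempty (N ≅ Coh.structureModule X) := by
  let O := Coh.structureModule X
  have hr : (show Γ(X, ⊤) from (a ≫ b).app ⊤ (M1.one ⊤)) ≠ 0 := fun h =>
    hab (M1.unit_hom_ext (h.trans rfl))
  obtain ⟨c, hc⟩ := hΓ.mul_inv_cancel hr
  let w : O ⟶ O := M1.secHom (show Γ(O, ⊤) from c)
  have hw : w ≫ a ≫ b = 𝟙 O := by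
    refine M1.unit_hom_ext ?_
    show (a ≫ b).app ⊤ (w.app ⊤ (M1.one ⊤)) = M1.one ⊤
    rw [show w.app ⊤ (M1.one ⊤) = (show Γ(O, ⊤) from c) from M1.secHom_app_one _,
      show (show Γ(O, ⊤) from c) = (show Γ(X, ⊤) from c) • M1.one ⊤ from (mul_one (show Γ(X, ⊤) from c)).symm,
      Scheme.Modules.Hom.app_smul]
    exact (mul_comm _ _).trans hc
  have hb : ∀ x, Function.Surjective (RefHull.stalkMapₗ b x) := fun x r => by
    refine ⟨RefHull.stalkMapₗ (w ≫ a) x r, ?_⟩
    show (M1.stalkAb x).map b ((M1.stalkAb x).map (w ≫ a) r) = r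
    rw [← ConcreteCategory.comp_apply, ← Functor.map_comp, Category.assoc, hw, CategoryTheory.Functor.map_id]
    rfl
  haveI : IsIso b := (RH26.isIso_iff_stalkMapₗ b).2 fun x => ⟨by
    obtain ⟨eN⟩ := CurveCoh17.nonempty_stalk_equiv ((M2.isInvertible_iff_isFinLocFreeOfRank_one N).1 hN) x
    obtain ⟨eO⟩ := CurveCoh17.nonempty_stalk_equiv
      ((M2.isInvertible_iff_isFinLocFreeOfRank_one O).1 (PicLoc.isInvertible_structureModule X)) x
    have hs : Function.Surjective ((eO.toLinearMap.comp (RefHull.stalkMapₗ b x)).comp eN.symm.toLinearMap) :=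
      eO.surjective.comp ((hb x).comp eN.symm.surjective)
    have hi := OrzechProperty.injective_of_surjective_endomorphism _ hs
    intro s t hst
    have := @hi (eN s) (eN t) (by simp; exact hst)
    exact eN.injective this, hb x⟩
  exact ⟨asIso b⟩

/-- If `A ⊗ L` is trivial and `A ⊗ A` is trivial then `L ≅ A`. -/
def isoOfTensor {A L : X.Modules} (eA : CohB1.tensorMod A A ≅ Coh.structureModule X)
    (i : CohB1.tensorMod A L ≅ Coh.structureModule X) : L ≅ A :=
  (M2.tensorLUnit L).symm ≪≫ M2.tensorIso eA.symm (Iso.refl L) ≪≫ M2.tensorAssoc A A L ≪≫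
    M2.tensorIso (Iso.refl A) i ≪≫ M2.tensorRUnit A

/-- Distributivity over four summands. -/
def distrib (A B C D N : X.Modules) :
    CohB1.tensorMod (A ⊞ B ⊞ C ⊞ D) N ≅
      CohB1.tensorMod A N ⊞ CohB1.tensorMod B N ⊞ CohB1.tensorMod C N ⊞ CohB1.tensorMod D N :=
  haveI : ∀ P Q : X.Modules, PreservesBinaryBiproduct P Q (M2.tensorR N) := fun P Q =>
    (preservesBinaryBiproducts_of_preservesBiproducts (M2.tensorR N)).preserves
  (M2.tensorR N).mapBiprod _ _ ≪≫ biprod.mapIso (Iso.refl _)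
    ((M2.tensorR N).mapBiprod _ _ ≪≫ biprod.mapIso (Iso.refl _) ((M2.tensorR N).mapBiprod _ _))

section perm

variable {C : Type*} [Category C] [Preadditive C] [HasBinaryBiproducts C] (a b c d : C)

/-- `(b, a, d, c)`. -/
def swap12 : b ⊞ a ⊞ d ⊞ c ≅ a ⊞ b ⊞ c ⊞ d where
  hom := biprod.lift (biprod.snd ≫ biprod.fst) (biprod.lift biprod.fst
    (biprod.lift (biprod.snd ≫ biprod.snd ≫ biprod.snd) (biprod.snd ≫ biprod.snd ≫ biprod.fst)))
  inv := biprod.lift (biprod.snd ≫ biprod.fst) (biprod.lift biprod.fst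
    (biprod.lift (biprod.snd ≫ biprod.snd ≫ biprod.snd) (biprod.snd ≫ biprod.snd ≫ biprod.fst)))
  hom_inv_id := by
    apply biprod.hom_ext <;> [skip; apply biprod.hom_ext <;> [skip; apply biprod.hom_ext]] <;> simp
  inv_hom_id := by
    apply biprod.hom_ext <;> [skip; apply biprod.hom_ext <;> [skip; apply biprod.hom_ext]] <;> simp

/-- `(c, d, a, b)`. -/
def swap13 : c ⊞ d ⊞ a ⊞ b ≅ a ⊞ b ⊞ c ⊞ d where
  hom := biprod.lift (biprod.snd ≫ biprod.snd ≫ biprod.fst) (biprod.lift (biprod.snd ≫ biprod.snd ≫ biprod.snd)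
    (biprod.lift biprod.fst (biprod.snd ≫ biprod.fst)))
  inv := biprod.lift (biprod.snd ≫ biprod.snd ≫ biprod.fst) (biprod.lift (biprod.snd ≫ biprod.snd ≫ biprod.snd)
    (biprod.lift biprod.fst (biprod.snd ≫ biprod.fst)))
  hom_inv_id := by
    apply biprod.hom_ext <;> [skip; apply biprod.hom_ext <;> [skip; apply biprod.hom_ext]] <;> simp
  inv_hom_id := by
    apply biprod.hom_ext <;> [skip; apply biprod.hom_ext <;> [skip; apply biprod.hom_ext]] <;> simp

/-- `(d, c, b, a)`. -/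
def swap14 : d ⊞ c ⊞ b ⊞ a ≅ a ⊞ b ⊞ c ⊞ d where
  hom := biprod.lift (biprod.snd ≫ biprod.snd ≫ biprod.snd) (biprod.lift (biprod.snd ≫ biprod.snd ≫ biprod.fst)
    (biprod.lift (biprod.snd ≫ biprod.fst) biprod.fst))
  inv := biprod.lift (biprod.snd ≫ biprod.snd ≫ biprod.snd) (biprod.lift (biprod.snd ≫ biprod.snd ≫ biprod.fst)
    (biprod.lift (biprod.snd ≫ biprod.fst) biprod.fst))
  hom_inv_id := by
    apply biprod.hom_ext <;> [skip; apply biprod.hom_ext <;> [skip; apply biprod.hom_ext]] <;> simp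
  inv_hom_id := by
    apply biprod.hom_ext <;> [skip; apply biprod.hom_ext <;> [skip; apply biprod.hom_ext]] <;> simp

end perm

end Groth.Agent.Klein12
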